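import Cfsg.Agent.OrderFormula.Weak.Spor.Base
import Cfsg.Agent.CTwoAbelian.Presented

/-!
# `O'N` and `Th`: three commuting involutions from the relations

The three involutions are `a, c, e`; any dependence between them collapses the presentation.
-/

set_option autoImplicit false
set_option maxRecDepth 100000

namespace CfsgLib.OrderFormula.Weak.Spor26

open Cfsg.Spor CfsgLib.CTwoAbelian

variable {X : Type} [Group X]

theorem comm_of_prod_sq {x y : X} (hx : x * x = 1) (hy : y * y = 1) (h : (x * y) ^ 2 = 1) :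
    x * y = y * x := by
  rw [pow_two] at h
  rw [mul_eq_one_iff_eq_inv.1 h, mul_inv_rev, inv_eq_of_mul_eq_one_left hx,
    inv_eq_of_mul_eq_one_left hy]

theorem eq_one_of_cube {x : X} (h2 : x * x = 1) (h3 : x ^ 3 = 1) : x = 1 := by
  rwa [pow_succ, pow_two, h2, one_mul] at h3

/-- A power of a product of two involutions which is an involution commutes with both. -/
theorem comm_of_dihedral_pow {c d a : X} (hc : c * c = 1) (hd : d * d = 1) (ha : a * a = 1) {k : ℕ}
    (h : a = (c * d) ^ k) : a * c = c * a ∧ a * d = d * a := by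
  have hci := inv_eq_of_mul_eq_one_left hc
  have hdi := inv_eq_of_mul_eq_one_left hd
  have hai := inv_eq_of_mul_eq_one_left ha
  have e1 : (c * d)⁻¹ = c * (c * d) * c⁻¹ := by rw [mul_inv_rev, hci, hdi, ← mul_assoc c c, hc, one_mul]
  have e2 : (c * d)⁻¹ = d * (c * d) * d⁻¹ := by
    rw [mul_inv_rev, hci, hdi, mul_assoc d (c * d) d, mul_assoc c d d, hd, mul_one]
  constructor
  · have : c * a * c⁻¹ = a := by
      calc c * a * c⁻¹ = (c * d)⁻¹ ^ k := by rw [e1, conj_pow, h]
        _ = a := by rw [inv_pow, ← h, hai]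
    exact (mul_inv_eq_iff_eq_mul.1 this).symm
  · have : d * a * d⁻¹ = a := by
      calc d * a * d⁻¹ = (c * d)⁻¹ ^ k := by rw [e2, conj_pow, h]
        _ = a := by rw [inv_pow, ← h, hai]
    exact (mul_inv_eq_iff_eq_mul.1 this).symm

theorem pow_mul_of_comm {c d : X} (h : c * d = d * c) (hc : c * c = 1) (hd : d * d = 1) :
    (c * d) ^ 4 = 1 := by
  rw [(show Commute c d from h).mul_pow, show (4 : ℕ) = 2 * 2 from rfl, pow_mul, pow_mul, pow_two c,
    pow_two d, hc, hd, one_pow, one_mul]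

/-- The witness `a, c, e` of `Th`. -/
theorem th_triple {a b c d e : X} (a2 : a * a = 1) (b2 : b * b = 1) (c2 : c * c = 1) (d2 : d * d = 1)
    (e2 : e * e = 1) (ab : (a * b) ^ 3 = 1) (ae : (a * e) ^ 2 = 1) (bc : (b * c) ^ 3 = 1)
    (bd : (b * d) ^ 2 = 1) (be : (b * e) ^ 2 = 1) (acd : a = (c * d) ^ 4) (ce : (c * e) ^ 2 = 1)
    (de : (d * e) ^ 3 = 1) (hne : a ≠ 1) : TwoWitness X := by
  obtain ⟨hac, had⟩ := comm_of_dihedral_pow c2 d2 a2 acd
  have hae := comm_of_prod_sq a2 e2 ae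
  have hce := comm_of_prod_sq c2 e2 ce
  have hbd := comm_of_prod_sq b2 d2 bd
  have hbe := comm_of_prod_sq b2 e2 be
  have inv : ∀ {x y : X}, x * x = 1 → x * y = 1 → y = x := fun hx hxy =>
    mul_left_cancel (hxy.trans hx.symm)
  refine witness_of_three a2 c2 e2 hac hae hce hne (fun h => ?_) (fun h => ?_) (fun h => ?_)
    (fun h => ?_) (fun h => ?_) (fun h => ?_)
  · subst h
    refine hne (acd.trans ?_)
    rw [one_mul, show (4 : ℕ) = 2 * 2 from rfl, pow_mul, pow_two d, d2, one_pow]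
  · obtain rfl : a = c := (inv a2 h).symm
    exact hne (acd.trans (pow_mul_of_comm had a2 d2))
  · subst h
    obtain rfl : d = 1 := eq_one_of_cube d2 (by simpa using de)
    refine hne (acd.trans ?_)
    rw [mul_one, show (4 : ℕ) = 2 * 2 from rfl, pow_mul, pow_two c, c2, one_pow]
  · obtain rfl : a = e := (inv a2 h).symm
    obtain rfl : a = b := ((eq_of_comm_three a2 b2 ab hbe.symm).symm).symm
    obtain rfl : a = d := (eq_of_comm_three d2 a2 de had.symm).symm
    exact hne (acd.trans (pow_mul_of_comm hce c2 a2))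
  · obtain rfl : c = e := (inv c2 h).symm
    obtain rfl : c = b := (eq_of_comm_three b2 c2 bc hbe).symm
    exact hne (acd.trans (pow_mul_of_comm hbd c2 d2))
  · have he : e = a * c := by
      rw [eq_inv_of_mul_eq_one_right h, mul_inv_rev, inv_eq_of_mul_eq_one_left a2,
        inv_eq_of_mul_eq_one_left c2, hac]
    have e3 : (d * c) ^ 3 = a := by
      have h3 : (a * (d * c)) ^ 3 = 1 := by
        rw [← mul_assoc, had, mul_assoc, ← he]
        exact de
      rw [(show Commute a (d * c) from Commute.mul_right had hac).mul_pow,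
        show a ^ 3 = a by rw [pow_succ, pow_two, a2, one_mul]] at h3
      exact (eq_inv_of_mul_eq_one_right h3).trans (inv_eq_of_mul_eq_one_left a2)
    have e4 : (c * d) ^ 3 = a := by
      calc (c * d) ^ 3 = c * (d * c) ^ 3 * c⁻¹ := by rw [← conj_pow]; group
        _ = a := by rw [e3, ← hac, mul_inv_cancel_right]
    have e5 : c * d = 1 := by
      have := acd.symm
      rwa [pow_succ, e4, mul_eq_left] at this
    exact hne (acd.trans (by rw [e5, one_pow]))

/-- `a = 1` trivialises `Th`. -/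
theorem th_of_a {a b c d e s t u : X}
    (b2 : b ^ 2 = 1) (c2 : c ^ 2 = 1) (d2 : d ^ 2 = 1) (e2 : e ^ 2 = 1) (ha : a = 1)
    (ab : (a * b) ^ 3 = 1) (bc : (b * c) ^ 3 = 1)
    (de : (d * e) ^ 3 = 1) (bcde : (b * c * d * e) ^ 8 = 1) (s7 : s ^ 7 = 1)
    (sd : (s * d) ^ 2 = 1) (es : e⁻¹ * s⁻¹ * e * s * ((s ^ 3)⁻¹ * e * s ^ 3)⁻¹ = 1)
    (t3 : t ^ 3 = 1) (u2 : u ^ 2 * (a * c)⁻¹ = 1) (tu : u⁻¹ * t * u * (t⁻¹)⁻¹ = 1)
    (us : a * c * ((u * s) ^ 3)⁻¹ = 1) :
    b = 1 ∧ c = 1 ∧ d = 1 ∧ e = 1 ∧ s = 1 ∧ t = 1 ∧ u = 1 := by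
  have one3 : ∀ {x : X}, x ^ 2 = 1 → x ^ 3 = 1 → x = 1 := fun h2 h3 => by
    rwa [pow_succ, h2, one_mul] at h3
  have inv2 : ∀ {x : X}, x ^ 2 = 1 → x⁻¹ = x := fun h2 =>
    inv_eq_of_mul_eq_one_left (by rwa [← pow_two])
  subst ha
  rw [one_mul] at ab
  obtain rfl : b = 1 := one3 b2 ab
  rw [one_mul] at bc
  obtain rfl : c = 1 := one3 c2 bc
  rw [one_mul, one_mul] at bcde
  obtain rfl : d = e := by
    have h2 : (d * e) ^ 2 = 1 := by
      rw [show (8 : ℕ) = 3 * 2 + 2 by norm_num, pow_add, pow_mul, de, one_pow, one_mul] at bcde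
      exact bcde
    have h1 := one3 h2 de
    rw [mul_eq_one_iff_eq_inv, inv2 e2] at h1
    exact h1
  rw [mul_inv_eq_one, inv2 d2] at es
  have hds : d * s⁻¹ = s * d := by
    rw [pow_two] at sd
    have h1 := eq_inv_of_mul_eq_one_left sd
    rw [h1, mul_inv_rev, inv2 d2]
  rw [hds, mul_assoc s d d, ← pow_two d, d2, mul_one] at es
  have h4 : s ^ 4 = 1 := by
    rw [show (4 : ℕ) = 2 * 2 from rfl, pow_mul, pow_two s, es, pow_two]
    calc (s ^ 3)⁻¹ * d * s ^ 3 * ((s ^ 3)⁻¹ * d * s ^ 3) = (s ^ 3)⁻¹ * (d * d) * s ^ 3 := by group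
      _ = 1 := by rw [← pow_two d, d2, mul_one, inv_mul_cancel]
  have h3 : s ^ 3 = 1 := by rwa [show (7 : ℕ) = 4 + 3 by norm_num, pow_add, h4, one_mul] at s7
  obtain rfl : s = 1 := by rwa [show (4 : ℕ) = 3 + 1 by norm_num, pow_succ, h3, one_mul] at h4
  obtain rfl : d = 1 := by simpa using es.symm
  rw [mul_one, inv_one, mul_one] at u2
  rw [mul_one, mul_one, one_mul, inv_eq_one] at us
  obtain rfl : u = 1 := one3 u2 us
  rw [inv_one, one_mul, mul_one, inv_inv] at tu
  exact ⟨rfl, rfl, rfl, rfl, rfl, one3 (by rw [pow_two]; exact tu) t3, rfl⟩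

theorem th_witness (hnc : ¬ IsMulCommutative Th) : TwoWitness Th := by
  let φ : FreeGroup Th.Gen →* Th := PresentedGroup.mk _
  have hr : ∀ r ∈ Th.extra, φ r = 1 := fun r hr => PresentedGroup.one_of_mem (Or.inr hr)
  simp only [Th.extra, List.mem_cons, List.not_mem_nil, or_false, forall_eq_or_imp, forall_eq,
    map_mul, map_pow, map_inv] at hr
  obtain ⟨a2, b2, c2, d2, e2, ab, ae, bc, bd, be, acd, ce, de, bcde, s7, -, -, -, sd, es, t3, -, -,
    -, -, -, -, u2, -, -, -, -, -, -, tu, -, us, -, -⟩ := hr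
  refine th_triple ((pow_two _).symm.trans a2) ((pow_two _).symm.trans b2) ((pow_two _).symm.trans c2)
    ((pow_two _).symm.trans d2) ((pow_two _).symm.trans e2) ab ae bc bd be (mul_inv_eq_one.1 acd) ce de
    fun ha => hnc ?_
  obtain ⟨hb, hc, hd, he, hs, ht, hu⟩ :=
    th_of_a (X := Th) b2 c2 d2 e2 ha ab bc de bcde s7 sd es t3 u2 tu us
  exact comm_of_gn_eq (c := 1) fun x => by cases x <;> assumption

/-- The witness `a, c, e` of `O'N`. -/
theorem on_triple {a b c d e f g : X} (hnc : ¬ (a = b ∧ a = c ∧ a = d ∧ a = e ∧ a = f ∧ a = g))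
    (a2 : a * a = 1) (b2 : b * b = 1) (c2 : c * c = 1) (d2 : d * d = 1) (e2 : e * e = 1)
    (f2 : f * f = 1) (ab : (a * b) ^ 3 = 1) (hac : a * c = c * a) (had : a * d = d * a)
    (hae : a * e = e * a) (haf : a * f = f * a) (bc : (b * c) ^ 3 = 1) (hbe : b * e = e * b)
    (hbf : b * f = f * b) (hce : c * e = e * c) (hcf : c * f = f * c) (de : (d * e) ^ 3 = 1)
    (ef : (e * f) ^ 3 = 1) (hg : a * f = g ^ 2) (hcd : a * f = (c * d) ^ 4)
    (hc4 : c * ((d * g * d * g)⁻¹ * c * (d * g * d * g)) = 1) (h5 : (b * c * d * g) ^ 5 = 1) :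
    TwoWitness X := by
  have inv : ∀ {x y : X}, x * x = 1 → x * y = 1 → y = x := fun hx hxy =>
    mul_left_cancel (hxy.trans hx.symm)
  have hA : a ≠ 1 := fun h => by
    subst h
    obtain rfl : b = 1 := eq_one_of_cube b2 (by simpa using ab)
    obtain rfl : c = 1 := eq_one_of_cube c2 (by simpa using bc)
    obtain rfl : f = 1 := by
      rw [one_mul, one_mul] at hcd
      rw [hcd, show (4 : ℕ) = 2 * 2 from rfl, pow_mul, pow_two d, d2, one_pow]
    obtain rfl : e = 1 := eq_one_of_cube e2 (by simpa using ef)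
    obtain rfl : d = 1 := eq_one_of_cube d2 (by simpa using de)
    simp only [one_mul] at hg h5
    obtain rfl : g = 1 := by
      rwa [show (5 : ℕ) = 2 + 2 + 1 from rfl, pow_succ, pow_add, ← hg, one_mul, one_mul] at h5
    exact hnc ⟨rfl, rfl, rfl, rfl, rfl, rfl⟩
  have hC : c ≠ 1 := fun h => by
    subst h
    obtain rfl : b = 1 := eq_one_of_cube b2 (by simpa using bc)
    exact hA (eq_one_of_cube a2 (by simpa using ab))
  have hE : a ≠ c := fun h => by
    subst h
    obtain rfl : a = f := (inv a2 (hcd.trans (pow_mul_of_comm had a2 d2))).symm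
    obtain rfl : a = b := ((eq_of_comm_three a2 b2 ab hbf.symm).symm).symm
    obtain rfl : a = e := (eq_of_comm_three e2 a2 ef hae.symm).symm
    obtain rfl : a = d := (eq_of_comm_three d2 a2 de had.symm).symm
    have g2 : g * g = 1 := by rw [← pow_two, ← hg, a2]
    have ai := inv_eq_of_mul_eq_one_left a2
    have gi := inv_eq_of_mul_eq_one_left g2
    have key : ∀ z : X, a * (a * z) = z := fun z => by rw [← mul_assoc, a2, one_mul]
    have q4' : (a * g) ^ 4 = 1 := by
      simpa [mul_inv_rev, ai, gi, key, a2, pow_succ, mul_assoc] using hc4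
    have q5 : (a * g) ^ 5 = 1 := by rwa [a2, one_mul] at h5
    rw [show (5 : ℕ) = 4 + 1 from rfl, pow_succ, q4', one_mul] at q5
    exact hnc ⟨rfl, rfl, rfl, rfl, rfl, (inv a2 q5).symm⟩
  refine witness_of_three a2 c2 e2 hac hae hce hA hC (fun h => hE (inv a2 h).symm) (fun h => ?_)
    (fun h => ?_) (fun h => ?_) (fun h => ?_)
  · subst h
    obtain rfl : d = 1 := eq_one_of_cube d2 (by simpa using de)
    obtain rfl : f = 1 := eq_one_of_cube f2 (by simpa using ef)
    rw [mul_one, mul_one, show (4 : ℕ) = 2 * 2 from rfl, pow_mul, pow_two c, c2, one_pow] at hcd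
    exact hA hcd
  · obtain rfl : a = e := (inv a2 h).symm
    obtain rfl : a = b := ((eq_of_comm_three a2 b2 ab hbe.symm).symm).symm
    exact hE (eq_of_comm_three a2 c2 bc hac)
  · obtain rfl : c = e := (inv c2 h).symm
    obtain rfl : c = b := (eq_of_comm_three b2 c2 bc hbe).symm
    exact hE (eq_of_comm_three a2 c2 ab hac)
  · have he : e = a * c := by
      rw [eq_inv_of_mul_eq_one_right h, mul_inv_rev, inv_eq_of_mul_eq_one_left a2,
        inv_eq_of_mul_eq_one_left c2, hac]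
    have hef : e * f = f * e := by
      rw [he]; exact (Commute.mul_left haf hcf : Commute (a * c) f)
    have hfe : e = f := eq_of_comm_three e2 f2 ef hef
    have hc : a * f = c := by rw [← hfe, he, ← mul_assoc, a2, one_mul]
    rw [hc] at hcd
    exact hC (hcd.trans (pow_mul_of_comm (comm_of_dihedral_pow c2 d2 c2 hcd).2 c2 d2))

theorem on_witness (hnc : ¬ IsMulCommutative ON) : TwoWitness ON := by
  have hr : ∀ r ∈ ON.extra, PresentedGroup.mk (coxRelators ON.edges ∪ {r | r ∈ ON.extra}) r = 1 :=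
    fun r hr => PresentedGroup.one_of_mem (Or.inr hr)
  simp only [ON.extra, List.mem_cons, List.not_mem_nil, or_false, forall_eq_or_imp, forall_eq,
    map_mul, map_pow, map_inv] at hr
  obtain ⟨hg, hcd, hc4, -, h5, -, -⟩ := hr
  let v : ON.Gen → ON := fun x => gn x
  have sq : ∀ x, x ∈ coxNodes ON.edges → v x * v x = 1 := fun x hx => gn_sq x hx
  have cm : ∀ x y, (x ∈ coxNodes ON.edges ∧ y ∈ coxNodes ON.edges) ∧ coxLabel ON.edges x y = 2 →
      v x * v y = v y * v x := fun x y h => gn_comm x y h.1.1 h.1.2 h.2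
  have th : ∀ x y, (x ∈ coxNodes ON.edges ∧ y ∈ coxNodes ON.edges) ∧ coxLabel ON.edges x y = 3 →
      (v x * v y) ^ 3 = 1 := fun x y h => gn_rel x y h.1.1 h.1.2 h.2
  refine on_triple (a := v .a) (b := v .b) (c := v .c) (d := v .d) (e := v .e) (f := v .f) (g := v .g)
    (fun h => hnc (comm_of_gn_eq (c := v .a) fun x => ?_))
    (sq _ (by decide)) (sq _ (by decide)) (sq _ (by decide)) (sq _ (by decide)) (sq _ (by decide))
    (sq _ (by decide)) (th _ _ (by decide)) (cm _ _ (by decide)) (cm _ _ (by decide)) (cm _ _ (by decide))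
    (cm _ _ (by decide)) (th _ _ (by decide)) (cm _ _ (by decide)) (cm _ _ (by decide)) (cm _ _ (by decide))
    (cm _ _ (by decide)) (th _ _ (by decide)) (th _ _ (by decide))
    (mul_inv_eq_one.1 hg) (mul_inv_eq_one.1 hcd) hc4 h5
  obtain ⟨hb, hc, hd, he, hf, hg'⟩ := h
  cases x
  exacts [hg'.symm, rfl, hb.symm, hc.symm, hd.symm, he.symm, hf.symm]

end CfsgLib.OrderFormula.Weak.Spor26
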