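import Cfsg.Agent.OrderFormula.Weak.Interface
import Cfsg.Agent.TwoRankThree.Basic
import Cfsg.Agent.Coset.Table

/-!
# Criteria against a semidihedral Sylow 2-subgroup

Three commuting involutions with no relation, given abstractly or by words in a permutation
model, and a 2-subgroup of exponent four and order at least sixteen.
-/

set_option autoImplicit false

namespace CfsgLib.OrderFormula.Weak.Spor26

open CfsgLib.Coset

theorem _root_.CfsgLib.OrderFormula.Weak.TwoWitness.of_injective {G H : Type*} [Group G] [Group H] (f : H →* G)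
    (hf : Function.Injective f) (h : TwoWitness H) : TwoWitness G := by
  rcases h with ⟨A, hA, hA2, h8⟩ | ⟨a, b, ha, hb, hab, hne⟩
  · refine Or.inl ⟨A.map f, ⟨⟨?_⟩⟩, ?_, ?_⟩
    · rintro ⟨_, x, hx, rfl⟩ ⟨_, y, hy, rfl⟩
      refine Subtype.ext ?_
      show f x * f y = f y * f x
      rw [← map_mul, ← map_mul,
        show x * y = y * x from congrArg Subtype.val (hA.is_comm.comm ⟨x, hx⟩ ⟨y, hy⟩)]
    · rintro _ ⟨x, hx, rfl⟩
      rw [← map_pow, hA2 x hx, map_one]
    · rwa [Subgroup.card_map_of_injective hf]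
  · exact Or.inr ⟨f a, f b, by rw [orderOf_injective f hf, ha], by rw [orderOf_injective f hf, hb],
      hab.map f, fun e => hne (hf (by rw [e, map_pow]))⟩

/-- Three commuting involutions with no relation. -/
theorem witness_of_three {G : Type*} [Group G] {a b c : G} (ha : a * a = 1) (hb : b * b = 1)
    (hc : c * c = 1) (hab : a * b = b * a) (hac : a * c = c * a) (hbc : b * c = c * b)
    (na : a ≠ 1) (nb : b ≠ 1) (nab : a * b ≠ 1) (nc : c ≠ 1) (nac : a * c ≠ 1) (nbc : b * c ≠ 1)
    (nabc : a * b * c ≠ 1) : TwoWitness G := by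
  refine Or.inl (TwoRankThree.of_add (V := Fin 3 → ZMod 2)
    (fun v => a ^ (v 0).val * b ^ (v 1).val * c ^ (v 2).val) ?_ ?_
    TwoRankThree.zmod_pi_add_self TwoRankThree.zmod_pi_card)
  · intro v w
    have key : ∀ {g : G}, g * g = 1 → ∀ x y : ZMod 2, g ^ (x + y).val = g ^ x.val * g ^ y.val := by
      intro g hg x y
      rw [ZMod.val_add, ← pow_eq_pow_mod _ (by rw [pow_two, hg]), pow_add]
    simp only [Pi.add_apply]
    rw [key ha, key hb, key hc]
    have cab : ∀ i j : ℕ, Commute (a ^ i) (b ^ j) := fun i j => Commute.pow_pow hab i j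
    have cac : ∀ i j : ℕ, Commute (a ^ i) (c ^ j) := fun i j => Commute.pow_pow hac i j
    have cbc : ∀ i j : ℕ, Commute (b ^ i) (c ^ j) := fun i j => Commute.pow_pow hbc i j
    rw [Commute.mul_mul_mul_comm (cab _ _)]
    exact Commute.mul_mul_mul_comm ((cac _ _).mul_left (cbc _ _)) _ _
  · intro v hv
    have hz : ∀ x : ZMod 2, x = 0 ∨ x = 1 := by decide
    rcases hz (v 0) with e0 | e0 <;> rcases hz (v 1) with e1 | e1 <;> rcases hz (v 2) with e2 | e2 <;>
      simp only [e0, e1, e2, ZMod.val_zero, ZMod.val_one, pow_zero, pow_one, one_mul, mul_one] at hv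
    · funext i
      fin_cases i <;> assumption
    all_goals first
      | exact absurd hv na | exact absurd hv nb | exact absurd hv nc | exact absurd hv nab
      | exact absurd hv nac | exact absurd hv nbc | exact absurd hv nabc

/-- A subgroup of exponent four and order at least sixteen. -/
theorem not_qd_of_exponent_four {G : Type*} [Group G] [Finite G] (E : Subgroup G)
    (h4 : ∀ g ∈ E, g ^ 4 = 1) (h16 : 16 ≤ Nat.card E) (S : Sylow 2 G) :
    ¬ Cfsg.IsQuasiDihedral (S : Subgroup G) := by
  intro hS
  haveI : Fact (Nat.Prime 2) := ⟨Nat.prime_two⟩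
  have hE : IsPGroup 2 E := fun g => ⟨2, Subtype.ext (by simpa using h4 g g.2)⟩
  obtain ⟨T, hT⟩ := hE.exists_le_sylow
  set f : E →* (S : Subgroup G) := (T.equiv S).toMonoidHom.comp (Subgroup.inclusion hT) with hf
  have hfi : Function.Injective f := (T.equiv S).injective.comp (Subgroup.inclusion_injective hT)
  obtain ⟨n, hn, hcard, x, y, hx, hy, hxy⟩ := hS
  have hC : Nat.card f.range = Nat.card E := (Nat.card_congr (MonoidHom.ofInjective hfi).toEquiv).symm
  set X := Subgroup.zpowers x
  have hXi : X.index = 2 := by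
    have h := X.card_mul_index
    rw [Nat.card_zpowers, hx, hcard, pow_succ] at h
    exact mul_left_cancel₀ (by positivity) h
  have hle : Nat.card (f.range ⊓ X : Subgroup (S : Subgroup G)) ≤ 4 := by
    have hcyc : IsCyclic (f.range ⊓ X : Subgroup (S : Subgroup G)) :=
      isCyclic_of_injective (Subgroup.inclusion (inf_le_right : f.range ⊓ X ≤ X))
        (Subgroup.inclusion_injective _)
    obtain ⟨g, hg⟩ := hcyc.exists_generator
    rw [← orderOf_eq_card_of_forall_mem_zpowers hg]
    refine Nat.le_of_dvd (by norm_num) (orderOf_dvd_of_pow_eq_one (Subtype.ext ?_))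
    obtain ⟨e, he⟩ := g.2.1
    rw [Subgroup.coe_pow, ← he, ← map_pow,
      show e ^ 4 = 1 from Subtype.ext (by simpa using h4 e e.2), map_one]
    rfl
  have hrel : X.relIndex f.range ≤ 2 := by
    haveI := Subgroup.normal_of_index_eq_two hXi
    have := Nat.le_of_dvd (by omega) (Subgroup.relIndex_dvd_index_of_normal X f.range)
    omega
  have h := Subgroup.relIndex_bot_left f.range
  rw [← Subgroup.relIndex_mul_relIndex ⊥ (f.range ⊓ X) f.range bot_le inf_le_left,
    Subgroup.relIndex_bot_left, Subgroup.inf_relIndex_left, hC] at h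
  have := Nat.mul_le_mul hle hrel
  omega

/-! ### Words in a permutation model -/

/-- The products of the non-empty subsets of three words. -/
def sevenW (p q r : List Nat) : List (List Nat) := [p, q, p ++ q, r, p ++ r, q ++ r, p ++ q ++ r]

/-- The words saying that three elements are commuting involutions. -/
def sixW (p q r : List Nat) : List (List Nat) :=
  [p ++ p, q ++ q, r ++ r, p ++ q ++ p ++ q, p ++ r ++ p ++ r, q ++ r ++ q ++ r]

/-- Every word moves one of the points. -/
noncomputable def movedB (n k : Nat) (Tb : Nat → Nat) (ws : List (List Nat)) (pts : List Nat) : Bool :=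
  ws.all fun w => (w.all fun l => Nat.blt l k) &&
    pts.any fun i => Nat.blt i n && !(Nat.beq (follow (tget Tb) i w) i)

theorem ne_one_of_movedB {G : Type*} [Group G] {n k : ℕ} {L : List G} {ρ : G →* Equiv.Perm (Fin n)}
    {Tb : Nat → Nat} (hm : Matches L ρ Tb) (hk : L.length = k) {ws : List (List Nat)} {pts : List Nat}
    (h : movedB n k Tb ws pts = true) {w : List Nat} (hw : w ∈ ws) : ev L w ≠ 1 := by
  intro e
  have h1 := List.all_eq_true.1 h w hw
  simp only [Bool.and_eq_true, List.all_eq_true, List.any_eq_true, Nat.blt_eq,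
    Bool.not_eq_true'] at h1
  obtain ⟨hl, i, -, hi, hne⟩ := h1
  have h2 := (hm.fix_iff (i := ⟨i, hi⟩) fun l hl' => hk.symm ▸ hl l hl').mp
    (by rw [e, map_one]; rfl)
  rw [h2, Nat.beq_refl] at hne
  exact Bool.noConfusion hne

/-- Witness words, the relations being known. -/
theorem witness_of_words' {G : Type*} [Group G] {n k : ℕ} {L : List G} {ρ : G →* Equiv.Perm (Fin n)}
    {Tb : Nat → Nat} (hm : Matches L ρ Tb) (hk : L.length = k) {p q r : List Nat}
    (hone : ∀ w ∈ sixW p q r, ev L w = 1) {pts : List Nat}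
    (hmv : movedB n k Tb (sevenW p q r) pts = true) : TwoWitness G := by
  have h : ∀ w ∈ sevenW p q r, ev L w ≠ 1 := fun w hw => ne_one_of_movedB hm hk hmv hw
  simp only [sixW, List.mem_cons, List.not_mem_nil, or_false, forall_eq_or_imp, forall_eq,
    ev_append] at hone
  obtain ⟨hp, hq, hr, hpq, hpr, hqr⟩ := hone
  simp only [sevenW, List.mem_cons, List.not_mem_nil, or_false, forall_eq_or_imp, forall_eq,
    ev_append] at h
  obtain ⟨n1, n2, n3, n4, n5, n6, n7⟩ := h
  have key : ∀ {a b : G}, a * a = 1 → b * b = 1 → a * b * a * b = 1 → a * b = b * a := by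
    intro a b ha hb hab
    calc a * b = a * b * (a * b * a * b)⁻¹ * (a * b * a * b) := by group
      _ = (b * b)⁻¹ * b * ((a * a)⁻¹ * a) * (a * b * a * b) := by group
      _ = b * a := by rw [ha, hb, hab]; simp
  exact witness_of_three hp hq hr (key hp hq hpq) (key hp hr hpr) (key hq hr hqr) n1 n2 n3 n4 n5 n6 n7

/-- Witness words in a faithful permutation model. -/
theorem witness_of_words {G : Type*} [Group G] {n d k : ℕ} {L : List G}
    {ρ : G →* Equiv.Perm (Fin n)} {Tb : Nat → Nat} (hm : Matches L ρ Tb) (hk : L.length = k)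
    (hinj : Function.Injective ρ) {p q r : List Nat} (hc : checkRels n d Tb (sixW p q r) = true)
    {pts : List Nat} (hmv : movedB n k Tb (sevenW p q r) pts = true) : TwoWitness G := by
  refine witness_of_words' hm hk (fun w hw => hinj (Equiv.ext fun i => ?_)) hmv
  rw [map_one]
  refine (hm.fix_iff fun l hl => ?_).mpr
    (Nat.eq_of_beq_eq_true (allList_iff.mp (of_allBelow hc i i.2) w hw))
  have hb : ∀ v ∈ sevenW p q r, ∀ l ∈ v, l < k := by
    intro v hv l hl'
    have h1 := List.all_eq_true.1 hmv v hv
    simp only [Bool.and_eq_true, List.all_eq_true, Nat.blt_eq] at h1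
    exact h1.1 l hl'
  have hp : ∀ l ∈ p, l < k := hb p (by simp [sevenW])
  have hq : ∀ l ∈ q, l < k := hb q (by simp [sevenW])
  have hr : ∀ l ∈ r, l < k := hb r (by simp [sevenW])
  rw [hk]
  simp only [sixW, List.mem_cons, List.not_mem_nil, or_false] at hw
  have hp' := hp l
  have hq' := hq l
  have hr' := hr l
  rcases hw with rfl | rfl | rfl | rfl | rfl | rfl <;> simp only [List.mem_append] at hl <;> tauto

end CfsgLib.OrderFormula.Weak.Spor26
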