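import Cfsg.Agent.OrderFormula.Weak.Spor.Base
import Cfsg.Agent.CTwoAbelian.Presented

/-!
# Witnesses in the groups presented on Coxeter diagrams

A dependence between commuting nodes makes two adjacent nodes equal, and then all nodes are equal.
-/

set_option autoImplicit false
set_option maxRecDepth 100000

namespace CfsgLib.OrderFormula.Weak.Spor26

open Cfsg.Spor CfsgLib.CTwoAbelian

section Cox

variable {α : Type} [DecidableEq α] {edges : List (α × ℕ × α)} {extra : List (FreeGroup α)}

variable (edges) in
/-- One round of identifications. -/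
def grow (univ S : List α) : List α :=
  univ.filter fun u => S.contains u || S.any fun v => S.any fun w =>
    decide ((u ∈ coxNodes edges ∧ v ∈ coxNodes edges ∧ w ∈ coxNodes edges) ∧
      coxLabel edges u v = 3 ∧ coxLabel edges u w = 2)

variable (edges) in
/-- All nodes get identified. -/
def spreads (univ S : List α) : Bool :=
  univ.all fun u => ((grow edges univ)^[univ.length] S).contains u

theorem grow_spec {univ S : List α} {c : CoxPresented α edges extra}
    (h : ∀ x ∈ S, gn (edges := edges) (extra := extra) x = c) :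
    ∀ x ∈ grow edges univ S, gn (edges := edges) (extra := extra) x = c := by
  intro u hu
  simp only [grow, List.mem_filter, Bool.or_eq_true, List.contains_iff_mem, List.any_eq_true,
    decide_eq_true_eq] at hu
  rcases hu.2 with h1 | ⟨v, hv, w, hw, h1⟩
  · exact h u h1
  · exact (gn_step h1 ((h v hv).trans (h w hw).symm)).trans (h v hv)

theorem comm_of_spreads {univ S : List α} (hu : ∀ x : α, x ∈ univ) (hs : spreads edges univ S = true)
    {c : CoxPresented α edges extra} (h : ∀ x ∈ S, gn (edges := edges) (extra := extra) x = c) :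
    IsMulCommutative (CoxPresented α edges extra) := by
  have key : ∀ k, ∀ x ∈ (grow edges univ)^[k] S, gn (edges := edges) (extra := extra) x = c := by
    intro k
    induction k with
    | zero => exact h
    | succ k ih => rw [Function.iterate_succ_apply']; exact grow_spec ih
  refine comm_of_gn_eq (c := c) fun x => key univ.length x ?_
  exact List.contains_iff_mem.1 (List.all_eq_true.1 hs x (hu x))

variable (edges) in
/-- A neighbour of `z` that commutes with the members of `L` spreads to everything. -/
def indepB (univ L : List α) (z : α) : Bool :=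
  univ.any fun w => decide ((w ∈ coxNodes edges ∧ z ∈ coxNodes edges) ∧ coxLabel edges w z = 3 ∧
    ∀ x ∈ L, x ∈ coxNodes edges ∧ coxLabel edges w x = 2) && spreads edges univ [w, z]

theorem ne_prod (hnc : ¬ IsMulCommutative (CoxPresented α edges extra)) {univ L : List α} {z : α}
    (hu : ∀ x : α, x ∈ univ) (h : indepB edges univ L z = true) :
    gn (edges := edges) (extra := extra) z ≠ (L.map gn).prod := by
  intro e
  simp only [indepB, List.any_eq_true, Bool.and_eq_true, decide_eq_true_eq] at h
  obtain ⟨w, -, ⟨⟨hw, hz⟩, h3, hL⟩, hs⟩ := h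
  have hc : Commute (gn (edges := edges) (extra := extra) w) (gn z) := by
    rw [e]
    refine Commute.list_prod_right _ _ fun g hg => ?_
    obtain ⟨x, hx, rfl⟩ := List.mem_map.1 hg
    exact gn_comm w x hw (hL x hx).1 (hL x hx).2
  have ew : gn (edges := edges) (extra := extra) w = gn z :=
    eq_of_comm_three (gn_sq w hw) (gn_sq z hz) (gn_rel w z hw hz h3) hc
  exact hnc (comm_of_spreads hu hs (c := gn z) fun x hx => by
    simp only [List.mem_cons, List.not_mem_nil, or_false] at hx
    rcases hx with rfl | rfl
    · exact ew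
    · rfl)

variable (edges) in
/-- The checks for three commuting nodes. -/
def threeB (univ : List α) (x y z : α) : Bool :=
  decide ((x ∈ coxNodes edges ∧ y ∈ coxNodes edges ∧ z ∈ coxNodes edges) ∧
    coxLabel edges x y = 2 ∧ coxLabel edges x z = 2 ∧ coxLabel edges y z = 2) &&
  indepB edges univ [] x && indepB edges univ [] y && indepB edges univ [x] y &&
  indepB edges univ [] z && indepB edges univ [x] z && indepB edges univ [y] z &&
  indepB edges univ [y, x] z

theorem witness_of_nodes (hnc : ¬ IsMulCommutative (CoxPresented α edges extra)) {univ : List α}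
    (hu : ∀ x : α, x ∈ univ) {x y z : α} (h : threeB edges univ x y z = true) :
    TwoWitness (CoxPresented α edges extra) := by
  simp only [threeB, Bool.and_eq_true, decide_eq_true_eq] at h
  obtain ⟨⟨⟨⟨⟨⟨⟨⟨⟨hx, hy, hz⟩, cxy, cxz, cyz⟩, i1⟩, i2⟩, i3⟩, i4⟩, i5⟩, i6⟩, i7⟩ := h
  have n1 := ne_prod hnc hu i1
  have n2 := ne_prod hnc hu i2
  have n3 := ne_prod hnc hu i3
  have n4 := ne_prod hnc hu i4
  have n5 := ne_prod hnc hu i5
  have n6 := ne_prod hnc hu i6
  have n7 := ne_prod hnc hu i7
  simp only [List.map_cons, List.map_nil, List.prod_cons, List.prod_nil, mul_one] at n1 n2 n3 n4 n5 n6 n7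
  have inv : ∀ {a b : CoxPresented α edges extra}, a * a = 1 → a * b = 1 → b = a := fun ha hab =>
    mul_left_cancel (hab.trans ha.symm)
  have sx := gn_sq (extra := extra) x hx
  have sy := gn_sq (extra := extra) y hy
  refine witness_of_three sx sy (gn_sq z hz) (gn_comm x y hx hy cxy) (gn_comm x z hx hz cxz)
    (gn_comm y z hy hz cyz) n1 n2 (fun e => n3 (inv sx e)) n4 (fun e => n5 (inv sx e))
    (fun e => n6 (inv sy e)) (fun e => n7 ?_)
  rw [eq_inv_of_mul_eq_one_right e, mul_inv_rev, inv_eq_of_mul_eq_one_left sx,
    inv_eq_of_mul_eq_one_left sy]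

variable (edges) in
/-- The checks for three products with a fourth node. -/
def fourB (univ : List α) (x y z m : α) : Bool :=
  decide ((x ∈ coxNodes edges ∧ y ∈ coxNodes edges ∧ z ∈ coxNodes edges ∧ m ∈ coxNodes edges) ∧
    coxLabel edges x y = 2 ∧ coxLabel edges x z = 2 ∧ coxLabel edges y z = 2 ∧
    coxLabel edges x m = 2 ∧ coxLabel edges y m = 2 ∧ coxLabel edges z m = 2) &&
  indepB edges univ [x] m && indepB edges univ [y] m && indepB edges univ [x] y &&
  indepB edges univ [z] m && indepB edges univ [x] z && indepB edges univ [y] z &&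
  indepB edges univ [z, y, x] m

theorem witness_of_four (hnc : ¬ IsMulCommutative (CoxPresented α edges extra)) {univ : List α}
    (hu : ∀ x : α, x ∈ univ) {x y z m : α} (h : fourB edges univ x y z m = true)
    {K : Subgroup (CoxPresented α edges extra)} (hxK : gn x * gn m ∈ K) (hyK : gn y * gn m ∈ K)
    (hzK : gn z * gn m ∈ K) : TwoWitness K := by
  simp only [fourB, Bool.and_eq_true, decide_eq_true_eq] at h
  obtain ⟨⟨⟨⟨⟨⟨⟨⟨⟨hx, hy, hz, hm⟩, cxy, cxz, cyz, cxm, cym, czm⟩, i1⟩, i2⟩, i3⟩, i4⟩, i5⟩, i6⟩,
    i7⟩ := h
  have n1 := ne_prod hnc hu i1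
  have n2 := ne_prod hnc hu i2
  have n3 := ne_prod hnc hu i3
  have n4 := ne_prod hnc hu i4
  have n5 := ne_prod hnc hu i5
  have n6 := ne_prod hnc hu i6
  have n7 := ne_prod hnc hu i7
  simp only [List.map_cons, List.map_nil, List.prod_cons, List.prod_nil, mul_one] at n1 n2 n3 n4 n5 n6 n7
  have inv : ∀ {a b : CoxPresented α edges extra}, a * a = 1 → a * b = 1 → b = a := fun ha hab =>
    mul_left_cancel (hab.trans ha.symm)
  have sx := gn_sq (extra := extra) x hx
  have sy := gn_sq (extra := extra) y hy
  have sz := gn_sq (extra := extra) z hz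
  have sm := gn_sq (extra := extra) m hm
  have dx := gn_comm (extra := extra) x m hx hm cxm
  have dy := gn_comm (extra := extra) y m hy hm cym
  have dz := gn_comm (extra := extra) z m hz hm czm
  have key : ∀ a b : CoxPresented α edges extra, b * gn m = gn m * b →
      a * gn m * (b * gn m) = a * b :=
    fun a b hb => by rw [hb, mul_assoc, ← mul_assoc (gn m), sm, one_mul]
  refine witness_of_three (a := ⟨_, hxK⟩) (b := ⟨_, hyK⟩) (c := ⟨_, hzK⟩) ?_ ?_ ?_ ?_ ?_ ?_ ?_ ?_ ?_
    ?_ ?_ ?_ ?_
  · exact Subtype.ext ((key _ _ dx).trans sx)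
  · exact Subtype.ext ((key _ _ dy).trans sy)
  · exact Subtype.ext ((key _ _ dz).trans sz)
  · exact Subtype.ext ((key _ _ dy).trans ((gn_comm x y hx hy cxy).trans (key _ _ dx).symm))
  · exact Subtype.ext ((key _ _ dz).trans ((gn_comm x z hx hz cxz).trans (key _ _ dx).symm))
  · exact Subtype.ext ((key _ _ dz).trans ((gn_comm y z hy hz cyz).trans (key _ _ dy).symm))
  all_goals intro e; replace e := congrArg Subtype.val e
  · exact n1 (inv sx e)
  · exact n2 (inv sy e)
  · exact n3 (inv sx ((key _ _ dy).symm.trans e))
  · exact n4 (inv sz e)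
  · exact n5 (inv sx ((key _ _ dz).symm.trans e))
  · exact n6 (inv sy ((key _ _ dz).symm.trans e))
  · change gn x * gn m * (gn y * gn m) * (gn z * gn m) = 1 at e
    rw [key _ _ dy, ← mul_assoc] at e
    refine n7 ?_
    rw [eq_inv_of_mul_eq_one_right e, mul_inv_rev, mul_inv_rev, inv_eq_of_mul_eq_one_left sx,
      inv_eq_of_mul_eq_one_left sy, inv_eq_of_mul_eq_one_left sz]

variable (edges) in
/-- One round of equalities in the abelianisation. -/
def abGrow (univ S : List α) : List α :=
  univ.filter fun u => S.contains u || S.any fun v =>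
    decide ((u ∈ coxNodes edges ∧ v ∈ coxNodes edges) ∧ coxLabel edges u v = 3)

theorem ab_all {univ : List α} (hu : ∀ x : α, x ∈ univ) (m : α)
    (hs : (univ.all fun u => ((abGrow edges univ)^[univ.length] [m]).contains u) = true) (u : α) :
    Abelianization.of (gn (edges := edges) (extra := extra) u) = Abelianization.of (gn m) := by
  have key : ∀ k, ∀ x ∈ (abGrow edges univ)^[k] [m],
      Abelianization.of (gn (edges := edges) (extra := extra) x) = Abelianization.of (gn m) := by
    intro k
    induction k with
    | zero =>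
      intro x hx
      rw [List.mem_singleton.1 hx]
    | succ k ih =>
      intro x hx
      rw [Function.iterate_succ_apply'] at hx
      simp only [abGrow, List.mem_filter, Bool.or_eq_true, List.contains_iff_mem, List.any_eq_true,
        decide_eq_true_eq] at hx
      rcases hx.2 with h1 | ⟨v, hv, h1⟩
      · exact ih x h1
      · exact (ab_eq h1).trans (ih v hv)
  exact key _ u (List.contains_iff_mem.1 (List.all_eq_true.1 hs u (hu u)))

end Cox

/-- The nodes of the diagram of `Fi₂₂`. -/
def fi22All : List Fi22.Gen := [.a, .b, .c, .d, .e, .f, .g, .h, .i]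

theorem fi22_witness (hnc : ¬ IsMulCommutative Fi22) : TwoWitness Fi22 :=
  witness_of_nodes hnc (univ := fi22All) (fun x => by cases x <;> decide)
    (x := .a) (y := .c) (z := .g) (by decide +kernel)

/-- The nodes of the diagram of `Fi₂₃`. -/
def fi23All : List Fi23.Gen := [.a, .b, .c, .d, .e, .f, .g, .j, .h, .i]

theorem fi23_witness (hnc : ¬ IsMulCommutative Fi23) : TwoWitness Fi23 :=
  witness_of_nodes hnc (univ := fi23All) (fun x => by cases x <;> decide)
    (x := .a) (y := .c) (z := .g) (by decide +kernel)

/-- The nodes of the diagram of the Baby Monster. -/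
def babyAll : List BabyMonster.Gen :=
  [.t1, .t2, .t3, .t4, .t5, .t6, .t7, .t8, .t9, .t10, .t11]

theorem baby_witness (hnc : ¬ IsMulCommutative BabyMonster) : TwoWitness BabyMonster :=
  witness_of_nodes hnc (univ := babyAll) (fun x => by cases x <;> decide)
    (x := .t1) (y := .t3) (z := .t7) (by decide +kernel)

/-- The nodes of the diagram of `Fi₂₄`. -/
def fi24All : List Fi24.Gen := [.l, .k, .a, .b, .c, .d, .e, .f, .g, .j, .h, .i]

theorem fi24'_witness (hnc : ¬ IsMulCommutative Fi24') : TwoWitness Fi24' := by
  have hG : ¬ IsMulCommutative Fi24 :=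
    fun h => hnc ⟨⟨fun a b => Subtype.ext (h.is_comm.comm _ _)⟩⟩
  have hu : ∀ x : Fi24.Gen, x ∈ fi24All := fun x => by cases x <;> decide
  have hab := fun u => ab_all (edges := Fi24.edges) (extra := Fi24.extra) hu Fi24.Gen.f
    (by decide +kernel) u
  exact witness_of_four hG hu (x := .l) (y := .a) (z := .c) (m := .f) (by decide +kernel)
    (mul_mem_commutator (by decide) (hab _)) (mul_mem_commutator (by decide) (hab _))
    (mul_mem_commutator (by decide) (hab _))

/-- The nodes of the diagram of the Bimonster. -/
def biAll : List Bimonster.Gen :=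
  [.a, .b1, .c1, .d1, .e1, .f1, .b2, .c2, .d2, .e2, .f2, .b3, .c3, .d3, .e3, .f3]

theorem monster_witness (hnc : ¬ IsMulCommutative Monster) : TwoWitness Monster := by
  have hG : ¬ IsMulCommutative Bimonster :=
    fun h => hnc ⟨⟨fun a b => Subtype.ext (h.is_comm.comm _ _)⟩⟩
  have hu : ∀ x : Bimonster.Gen, x ∈ biAll := fun x => by cases x <;> decide
  have hab := fun u => ab_all (edges := Bimonster.edges) (extra := Bimonster.extra) hu
    Bimonster.Gen.c3 (by decide +kernel) u
  have hmem : ∀ u, u ∈ coxNodes Bimonster.edges → coxLabel Bimonster.edges u .a = 2 →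
      gn (edges := Bimonster.edges) (extra := Bimonster.extra) u * gn .c3 ∈
        Subgroup.centralizer {(PresentedGroup.of Bimonster.Gen.a : Bimonster)} ⊓
          commutator Bimonster := by
    intro u hun hua
    refine ⟨Subgroup.mem_centralizer_singleton_iff.2 ?_, mul_mem_commutator (by decide) (hab u)⟩
    show gn u * gn Bimonster.Gen.c3 * gn Bimonster.Gen.a =
      gn Bimonster.Gen.a * (gn u * gn Bimonster.Gen.c3)
    rw [mul_assoc, gn_comm Bimonster.Gen.c3 .a (by decide) (by decide) (by decide), ← mul_assoc,
      gn_comm u .a hun (by decide) hua, mul_assoc]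
  exact witness_of_four hG hu (x := .c1) (y := .e1) (z := .c2) (m := .c3) (by decide +kernel)
    (hmem _ (by decide) (by decide)) (hmem _ (by decide) (by decide))
    (hmem _ (by decide) (by decide))

end CfsgLib.OrderFormula.Weak.Spor26
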