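import Cfsg.Agent.OrderFormula.Weak.Spor.Base
import Cfsg.Agent.Coset.J4.M24Pres
import Cfsg.Agent.Golay.Cert
import Cfsg.Agent.Golay.Mathieu
import Cfsg.Agent.CTwoAbelian.Presented

/-!
# `J₄` contains an elementary abelian group of order eight

The first two generators give a copy of `M₂₄`, unless the presentation collapses.
-/

set_option autoImplicit false
set_option maxRecDepth 100000

namespace CfsgLib.OrderFormula.Weak.Spor26

open CfsgLib.Coset Cfsg.Spor

/-- The generators of the model. -/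
def Lm : List J4.M24m :=
  [⟨J4.Xp, J4.Xp_mem⟩, ⟨J4.Yp, J4.Yp_mem⟩, (⟨J4.Yp, J4.Yp_mem⟩ : J4.M24m)⁻¹]

theorem coe_ev_Lm : ∀ w : List Nat, ((ev Lm w : J4.M24m) : Equiv.Perm (Fin 24)) = ev J4.GsM w :=
  J4.coe_ev_LM24

/-- The word for the first involution. -/
def j4p : List Nat :=
  [0, 1, 0, 1, 0, 1, 0, 2, 0, 1, 0, 1, 0, 1, 0, 2, 0, 1, 0, 1, 0, 1, 0, 2, 0, 1, 0, 1, 0, 1, 0, 2]

/-- The word for the second involution. -/
def j4q : List Nat :=
  [0, 2, 0, 1, 0, 2, 0, 2, 0, 2, 0, 1, 0, 2, 0, 2, 0, 2, 0, 1, 0, 2, 0, 2, 0, 2, 0, 1, 0, 2, 0, 2]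

/-- The word for the third involution. -/
def j4r : List Nat :=
  [0, 1, 0, 2, 0, 1, 0, 1, 0, 2, 0, 1, 0, 1, 0, 2, 0, 1, 0, 1, 0, 2, 0, 1, 0, 1, 0, 2, 0, 1, 0, 1,
    0, 2, 0, 1]

theorem j4_six : ∀ w ∈ sixW j4p j4q j4r, ∀ i : Fin 24, ev J4.GsM w i = i := by decide +kernel

theorem j4_seven : ∀ w ∈ sevenW j4p j4q j4r, ∃ i : Fin 24, ev J4.GsM w i ≠ i := by decide +kernel

theorem m24m_witness : TwoWitness J4.M24m := by
  have h : ∀ w ∈ sevenW j4p j4q j4r, ev Lm w ≠ 1 := by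
    intro w hw e
    obtain ⟨i, hi⟩ := j4_seven w hw
    rw [← coe_ev_Lm, e] at hi
    exact hi rfl
  have hone : ∀ w ∈ sixW j4p j4q j4r, ev Lm w = 1 := fun w hw => Subtype.ext <| by
    rw [coe_ev_Lm]
    exact Equiv.ext (j4_six w hw)
  simp only [sixW, List.mem_cons, List.not_mem_nil, or_false, forall_eq_or_imp, forall_eq,
    ev_append] at hone
  obtain ⟨hp, hq, hr, hpq, hpr, hqr⟩ := hone
  simp only [sevenW, List.mem_cons, List.not_mem_nil, or_false, forall_eq_or_imp, forall_eq,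
    ev_append] at h
  obtain ⟨n1, n2, n3, n4, n5, n6, n7⟩ := h
  have key : ∀ {a b : J4.M24m}, a * a = 1 → b * b = 1 → a * b * a * b = 1 → a * b = b * a := by
    intro a b ha hb hab
    calc a * b = a * b * (a * b * a * b)⁻¹ * (a * b * a * b) := by group
      _ = (b * b)⁻¹ * b * ((a * a)⁻¹ * a) * (a * b * a * b) := by group
      _ = b * a := by rw [ha, hb, hab]; simp
  exact witness_of_three hp hq hr (key hp hq hpq) (key hp hr hpr) (key hq hr hqr) n1 n2 n3 n4 n5 n6 n7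

theorem m24m_simple : IsSimpleGroup J4.M24m := by
  have e : J4.M24m.map J4.ePhi.permCongrHom.toMonoidHom = Cfsg.M24 :=
    Subgroup.eq_of_le_of_card_ge J4.map_le (by
      rw [Subgroup.card_map_of_injective (K := J4.M24m)
        (show Function.Injective J4.ePhi.permCongrHom.toMonoidHom from J4.ePhi.permCongrHom.injective),
        J4.card_M24m, CfsgLib.Golay.card_M24])
  haveI := CfsgLib.Golay.m24_simple
  haveI : Nontrivial J4.M24m := by
    rw [← Finite.one_lt_card_iff_nontrivial, J4.card_M24m]; norm_num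
  exact ((Subgroup.equivMapOfInjective J4.M24m J4.ePhi.permCongrHom.toMonoidHom
    J4.ePhi.permCongrHom.injective).trans (MulEquiv.subgroupCongr e)).isSimpleGroup

theorem j4_witness (hnc : ¬ IsMulCommutative Cfsg.Spor.J4) : TwoWitness Cfsg.Spor.J4 := by
  obtain ⟨φ, hx, hy⟩ := J4.exists_hom_J4
  haveI := m24m_simple
  refine m24m_witness.of_injective φ ?_
  rcases φ.normal_ker.eq_bot_or_eq_top with h | h
  · exact (MonoidHom.ker_eq_bot_iff φ).mp h
  · exfalso
    have h1 : ∀ g, φ g = 1 := fun g => MonoidHom.mem_ker.mp (h ▸ Subgroup.mem_top g)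
    rw [h1] at hx hy
    let π : FreeGroup Cfsg.Spor.J4.Gen →* Cfsg.Spor.J4 := PresentedGroup.mk _
    have hr : ∀ r ∈ Cfsg.Spor.J4.extra, π r = 1 := fun r hr => PresentedGroup.one_of_mem (Or.inr hr)
    simp only [Cfsg.Spor.J4.extra, List.mem_cons, List.not_mem_nil, or_false, forall_eq_or_imp,
      forall_eq, map_mul, map_pow, map_inv] at hr
    obtain ⟨-, -, -, -, -, -, -, t2, -, -, yt, -⟩ := hr
    have ex : π Cfsg.Spor.J4.x = 1 := hx.symm
    have ey : π Cfsg.Spor.J4.y = 1 := hy.symm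
    simp only [ex, ey, one_mul, mul_one, inv_one] at yt
    have et : π Cfsg.Spor.J4.t = 1 := by rwa [pow_succ, t2, one_mul] at yt
    exact hnc (CfsgLib.CTwoAbelian.comm_of_gn_eq (c := 1) fun z => by cases z <;> assumption)

end CfsgLib.OrderFormula.Weak.Spor26
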