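import Cfsg.Agent.OrderFormula.Weak.Spor.Base
import Cfsg.Agent.J3Local.Bridge
import Cfsg.Agent.RuAut.Main
import Cfsg.Agent.J2.Main
import Cfsg.Agent.Coset.J1.Matrix
import Cfsg.Agent.Coset.He.Main
import Cfsg.Agent.Coset.Suz.Main
import Cfsg.Agent.Coset.Ly.Escape
import Cfsg.Agent.Coset.Ly.G2
import Cfsg.Agent.Coset.HN.Group

/-!
# Witnesses from the permutation models
-/

set_option autoImplicit false
set_option maxRecDepth 100000
set_option Elab.async false

namespace CfsgLib.OrderFormula.Weak.Spor26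

open CfsgLib.Coset

theorem j1_witness : TwoWitness Cfsg.Spor.J1 :=
  (witness_of_words (d := 9) J1.matches_ρ J1.len_Lp J1.card_and_injective.2
    (p := [0, 1, 0, 1, 0, 1]) (q := [0, 1, 2, 3, 0, 1, 2, 3, 0, 1, 2, 3])
    (r := [1, 0, 3, 2, 1, 0, 3, 2, 1, 0, 3, 2]) (by decide +kernel) (pts := [0, 1])
    (by decide +kernel)).of_injective J1.equivSpor.toMonoidHom J1.equivSpor.injective

theorem j2_witness : TwoWitness Cfsg.Spor.J2 :=
  (witness_of_words (d := 9) J2.Perm.matches_ρ J2.Perm.len_Lp J2.Perm.ρ_injective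
    (p := [2]) (q := [2, 3, 4, 3, 2, 3, 4, 3])
    (r := [0, 2, 4, 1, 3, 0, 2, 4, 1, 3, 0, 2, 4, 1, 3]) (by decide +kernel) (pts := [0])
    (by decide +kernel)).of_injective J2.eJ.symm.toMonoidHom J2.eJ.symm.injective

theorem j3_witness {G : Type*} [Group G] (hG : Cfsg.Spor.IsoJ3 G) : TwoWitness G := by
  obtain ⟨F, i1, i2, ω, hF, hω, ⟨e⟩⟩ := hG
  obtain ⟨e'⟩ := CfsgLib.J3Local.nonempty_equiv_P (F := F) (ω := ω)
    (by rw [Nat.card_eq_fintype_card, hF]) hω
  exact (witness_of_words (d := 13) J3.matches_ρ J3.len_Lp J3.card_and_injective.2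
    (p := [3]) (q := [1, 3, 1, 3]) (r := [2, 3, 2, 3, 2, 3, 2, 3, 2, 3]) (by decide +kernel)
    (pts := [0, 2]) (by decide +kernel)).of_injective (e'.trans e.symm).toMonoidHom
    (e'.trans e.symm).injective

theorem ru_witness : TwoWitness Cfsg.Spor.Ru := by
  obtain ⟨e⟩ := CfsgLib.RuAut.nonempty_equiv
  exact (witness_of_words (d := 12) Ru.matches_ρ Ru.len_Lp Ru.card_P.2
    (p := [2]) (q := [3]) (r := [1, 2, 1, 2]) (by decide +kernel) (pts := [1])
    (by decide +kernel)).of_injective e.symm.toMonoidHom e.symm.injective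

theorem contains_all {l L : List (List Nat)} (h : (l.all fun w => L.contains w) = true) :
    ∀ w ∈ l, w ∈ L := fun w hw => List.contains_iff_mem.mp (List.all_eq_true.mp h w hw)

theorem he_witness : TwoWitness Cfsg.Spor.He :=
  witness_of_words' He.matches_ρ He.len_Lg
    (fun w hw => He.ev_rels w (contains_all (l := sixW [0] [2] [4]) (by decide +kernel) w hw))
    (pts := List.range 64) (by decide +kernel)

theorem suz_witness : TwoWitness Cfsg.Spor.Suz :=
  witness_of_words' Suz.matches_ρ Suz.len_Lg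
    (fun w hw => Suz.ev_rels w (contains_all (l := sixW [0] [2] [4]) (by decide +kernel) w hw))
    (pts := List.range 64) (by decide +kernel)

theorem ly_hom_injective : Function.Injective Ly.frame_LG.Ψ := by
  rcases Ly.isSimple_A.eq_bot_or_eq_top_of_normal Ly.frame_LG.Ψ.ker inferInstance with h | h
  · exact (MonoidHom.ker_eq_bot_iff _).mp h
  · exact absurd (MonoidHom.mem_ker.mp (h ▸ Subgroup.mem_top _)) Ly.Ψ_ne_one

theorem ly_witness : TwoWitness Cfsg.Spor.Ly :=
  (witness_of_words (d := 12) Ly.matches_ρ Ly.len_LA Ly.card_and_injective.2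
    (p := [6, 6]) (q := [0, 6]) (r := [1, 6, 12, 1, 6, 12, 1, 6, 12, 1, 6, 12]) (by decide +kernel)
    (pts := [0, 3]) (by decide +kernel)).of_injective Ly.frame_LG.Ψ
    ly_hom_injective

theorem hn_witness : TwoWitness Cfsg.Spor.HN :=
  (witness_of_words' HN.matches_σK HN.length_Lk
    (fun w hw => by
      have hl : ((sixW [4] [0, 0] [0, 2, 0, 2, 0, 2, 0, 2]).all fun w =>
          (w.all fun l => Nat.blt l 5) && HN.eqK HN.KD.Tb HN.baseK w []) = true := by decide +kernel
      have h := List.all_eq_true.mp hl w hw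
      simp only [Bool.and_eq_true, List.all_eq_true, Nat.blt_eq] at h
      rw [HN.ev_eq_of_eqK h.1 (by simp) h.2, ev_nil])
    (pts := [0, 7]) (by decide +kernel)).of_injective HN.ψg HN.ψg_injective

end CfsgLib.OrderFormula.Weak.Spor26
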