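import Cfsg.Agent.OrderFormula.Weak.Spor.Mathieu
import Cfsg.Agent.OrderFormula.Weak.Spor.Words
import Cfsg.Agent.OrderFormula.Weak.Spor.Cox
import Cfsg.Agent.OrderFormula.Weak.Spor.Algebra
import Cfsg.Agent.OrderFormula.Weak.Spor.JFour

/-!
# Among the sporadic groups only `M₁₁` has semidihedral Sylow 2-subgroups
-/

set_option autoImplicit false

namespace CfsgLib.OrderFormula.Weak.Spor26

universe u

theorem table_spor_all {K : Type u} [Group K] [Finite K] [IsSimpleGroup K] (hK : ¬ IsMulCommutative K)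
    (h : Cfsg.IsSporadicGroup K) (S : Sylow 2 K) (hS : Cfsg.IsQuasiDihedral (S : Subgroup K)) :
    Cfsg.Spor.IsoM11 K := by
  have out : ∀ {X : Type} [Group X], (K ≃* X) → TwoWitness X → False := fun e w =>
    not_qd_of_witness (w.of_injective e.symm.toMonoidHom e.symm.injective) S hS
  have nc : ∀ {X : Type} [Group X], (K ≃* X) → ¬ IsMulCommutative X := fun e hX =>
    hK ⟨⟨fun a b => e.injective (by rw [map_mul, map_mul]; exact hX.is_comm.comm _ _)⟩⟩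
  rcases h with h | ⟨⟨e⟩⟩ | ⟨⟨e⟩⟩ | ⟨⟨e⟩⟩ | ⟨⟨e⟩⟩ | ⟨⟨e⟩⟩ | ⟨⟨e⟩⟩ | hJ3 | ⟨⟨e⟩⟩ | ⟨⟨e⟩⟩ | ⟨⟨e⟩⟩ |
    ⟨⟨e⟩⟩ | ⟨⟨e⟩⟩ | ⟨⟨e⟩⟩ | ⟨⟨e⟩⟩ | ⟨⟨e⟩⟩ | ⟨⟨e⟩⟩ | ⟨⟨e⟩⟩ | ⟨⟨e⟩⟩ | ⟨⟨e⟩⟩ | ⟨⟨e⟩⟩ | ⟨⟨e⟩⟩ |
    ⟨⟨e⟩⟩ | ⟨⟨e⟩⟩ | ⟨⟨e⟩⟩ | ⟨⟨e⟩⟩
  · exact h
  all_goals exfalso
  · exact out e m12_witness
  · exact out e m22_witness
  · exact out e m23_witness
  · exact out e m24_witness
  · exact out e j1_witness
  · exact out e j2_witness
  · exact not_qd_of_witness (j3_witness hJ3) S hS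
  · exact out e (j4_witness (nc e))
  · exact out e co1_witness
  · exact out e co2_witness
  · exact out e co3_witness
  · exact out e mcl_witness
  · exact out e hs_witness
  · exact out e suz_witness
  · exact out e he_witness
  · exact out e ru_witness
  · exact out e (on_witness (nc e))
  · exact out e ly_witness
  · exact out e (fi22_witness (nc e))
  · exact out e (fi23_witness (nc e))
  · exact out e (fi24'_witness (nc e))
  · exact out e hn_witness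
  · exact out e (th_witness (nc e))
  · exact out e (baby_witness (nc e))
  · exact out e (monster_witness (nc e))

end CfsgLib.OrderFormula.Weak.Spor26
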