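import Cfsg.Agent.OrderFormula.Weak.Spor.Base
import Cfsg.Agent.CTwoAbelian.Mathieu

/-!
# The Mathieu and Conway groups contain an elementary abelian group of order eight
-/

set_option autoImplicit false

namespace CfsgLib.OrderFormula.Weak.Spor26

open Cfsg CfsgLib.Golay CfsgLib.Golay.SylowCert CfsgLib.CTwoAbelian MulAction

/-- Commuting involutions of `M₂₂`. -/
def s22aL : List ℕ :=
  [0, 1, 2, 22, 5, 4, 11, 8, 7, 9, 10, 6, 21, 17, 16, 15, 14, 13, 19, 18, 20, 12, 3, 23]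

/-- Commuting involutions of `M₂₂`. -/
def s22bL : List ℕ :=
  [0, 1, 9, 3, 8, 7, 11, 5, 4, 2, 20, 6, 12, 19, 16, 15, 14, 18, 17, 13, 10, 21, 22, 23]

/-- Commuting involutions of `M₂₂`. -/
def s22cL : List ℕ :=
  [0, 1, 10, 12, 4, 5, 11, 7, 8, 20, 2, 6, 3, 18, 16, 15, 14, 19, 13, 17, 9, 22, 21, 23]

/-- Commuting involutions of `M₁₂`. -/
def s12aL : List ℕ :=
  [0, 1, 4, 16, 2, 19, 8, 23, 6, 9, 22, 11, 13, 12, 14, 21, 3, 17, 18, 5, 20, 15, 10, 7]

/-- Commuting involutions of `M₁₂`. -/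
def s12bL : List ℕ :=
  [0, 9, 2, 16, 4, 19, 12, 7, 13, 1, 15, 14, 6, 8, 11, 10, 3, 17, 18, 5, 20, 22, 21, 23]

/-- Commuting involutions of `M₁₂`. -/
def s12cL : List ℕ :=
  [18, 1, 2, 16, 4, 19, 13, 7, 12, 9, 21, 11, 8, 6, 14, 22, 3, 20, 0, 5, 17, 10, 15, 23]

theorem s22_in : In22 s22aL ∧ In22 s22bL ∧ In22 s22cL := by decide +kernel

theorem s12_in : In12 s12aL ∧ In12 s12bL ∧ In12 s12cL := by decide +kernel

/-- The conditions for three commuting involutions with no relation. -/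
def ThreeOK (a b c : Equiv.Perm GolayPt) : Prop :=
  (a * a = 1 ∧ b * b = 1 ∧ c * c = 1 ∧ a * b = b * a ∧ a * c = c * a ∧ b * c = c * b) ∧
    a ≠ 1 ∧ b ≠ 1 ∧ a * b ≠ 1 ∧ c ≠ 1 ∧ a * c ≠ 1 ∧ b * c ≠ 1 ∧ a * b * c ≠ 1

theorem s22_three : ThreeOK (permL s22aL) (permL s22bL) (permL s22cL) := by
  unfold ThreeOK
  refine ⟨⟨?_, ?_, ?_, ?_, ?_, ?_⟩, ?_, ?_, ?_, ?_, ?_, ?_, ?_⟩ <;> decide +kernel

theorem s12_three : ThreeOK (permL s12aL) (permL s12bL) (permL s12cL) := by
  unfold ThreeOK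
  refine ⟨⟨?_, ?_, ?_, ?_, ?_, ?_⟩, ?_, ?_, ?_, ?_, ?_, ?_, ?_⟩ <;> decide +kernel

theorem witness_of_perms (H : Subgroup (Equiv.Perm GolayPt)) {a b c : Equiv.Perm GolayPt}
    (ha : a ∈ H) (hb : b ∈ H) (hc : c ∈ H) (h : ThreeOK a b c) : TwoWitness H := by
  obtain ⟨⟨h1, h2, h3, h4, h5, h6⟩, n1, n2, n3, n4, n5, n6, n7⟩ := h
  refine witness_of_three (a := ⟨a, ha⟩) (b := ⟨b, hb⟩) (c := ⟨c, hc⟩) ?_ ?_ ?_ ?_ ?_ ?_ ?_ ?_ ?_ ?_ ?_
    ?_ ?_
  iterate 6 exact Subtype.ext (by assumption)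
  all_goals exact fun e => by first
    | exact n1 (congrArg Subtype.val e) | exact n2 (congrArg Subtype.val e)
    | exact n3 (congrArg Subtype.val e) | exact n4 (congrArg Subtype.val e)
    | exact n5 (congrArg Subtype.val e) | exact n6 (congrArg Subtype.val e)
    | exact n7 (congrArg Subtype.val e)

theorem m22_witness : TwoWitness Spor.M22 :=
  witness_of_perms _ (permL_mem_M22 s22_in.1) (permL_mem_M22 s22_in.2.1) (permL_mem_M22 s22_in.2.2)
    s22_three

theorem m12_witness : TwoWitness Spor.M12 :=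
  witness_of_perms _ (permL_mem_M12 s12_in.1) (permL_mem_M12 s12_in.2.1) (permL_mem_M12 s12_in.2.2)
    s12_three

theorem m23_witness : TwoWitness Spor.M23 :=
  m22_witness.of_injective (Subgroup.inclusion inf_le_left) (Subgroup.inclusion_injective _)

theorem m24_witness : TwoWitness M24 :=
  m23_witness.of_injective (Subgroup.inclusion inf_le_left) (Subgroup.inclusion_injective _)

/-- The permutation automorphisms give `M₂₂` inside a stabiliser in `Co₀`. -/
theorem stab_witness (H : Subgroup (Equiv.Perm leechLattice))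
    (hH : ∀ σ : M24, (σ : Equiv.Perm GolayPt) ∈ Spor.M22 →
      ((Leech.permHom σ : Co0) : Equiv.Perm leechLattice) ∈ H) : TwoWitness H := by
  let i : Spor.M22 →* M24 := Subgroup.inclusion (inf_le_left.trans inf_le_left)
  let f : Spor.M22 →* H :=
    (Co0.subtype.comp (Leech.permHom.comp i)).codRestrict H fun σ => hH (i σ) σ.2
  exact m22_witness.of_injective f fun x y e => Subgroup.inclusion_injective _
    (Leech.permHom_injective (Subtype.ext (congrArg Subtype.val e :)))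

theorem co2_witness : TwoWitness Spor.Co2 :=
  stab_witness _ fun σ hσ => ⟨(Leech.permHom σ).2,
    permHom_fix σ.2 Spor.leechU (vec_invariant hσ).1⟩

theorem co3_witness : TwoWitness Spor.Co3 :=
  stab_witness _ fun σ hσ => ⟨(Leech.permHom σ).2,
    permHom_fix σ.2 Spor.leechV (vec_invariant hσ).2.2⟩

theorem mcl_witness : TwoWitness Spor.McL :=
  stab_witness _ fun σ hσ => ⟨⟨(Leech.permHom σ).2,
    permHom_fix σ.2 Spor.leechV (vec_invariant hσ).2.2⟩,
    permHom_fix σ.2 Spor.leechU (vec_invariant hσ).1⟩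

theorem hs_witness : TwoWitness Spor.HS :=
  stab_witness _ fun σ hσ => ⟨⟨(Leech.permHom σ).2,
    permHom_fix σ.2 Spor.leechV (vec_invariant hσ).2.2⟩,
    permHom_fix σ.2 Spor.leechU' (vec_invariant hσ).2.1⟩

theorem co1_witness : TwoWitness Spor.Co1 := by
  obtain ⟨⟨h1, h2, h3, h4, h5, h6⟩, -⟩ := s22_three
  let a : M24 := ⟨_, (permL_mem_M22 s22_in.1).1.1⟩
  let b : M24 := ⟨_, (permL_mem_M22 s22_in.2.1).1.1⟩
  let c : M24 := ⟨_, (permL_mem_M22 s22_in.2.2).1.1⟩
  let f : M24 →* Spor.Co1 := (QuotientGroup.mk' (Subgroup.center Co0)).comp Leech.permHom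
  let z : M24 := ⟨m11x, m11x_mem.1.1⟩
  let w : M24 := ⟨permL s12aL, (permL_mem_M12 s12_in.1).1⟩
  have hz : ∀ g : M24, f g = 1 → g * z = z * g ∧ g * w = w * g := by
    intro g hg
    rw [MonoidHom.comp_apply, QuotientGroup.mk'_apply, QuotientGroup.eq_one_iff,
      Subgroup.mem_center_iff] at hg
    constructor
    · exact Leech.permHom_injective (by rw [map_mul, map_mul]; exact (hg _).symm)
    · exact Leech.permHom_injective (by rw [map_mul, map_mul]; exact (hg _).symm)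
  refine witness_of_three (a := f a) (b := f b) (c := f c) ?_ ?_ ?_ ?_ ?_ ?_ ?_ ?_ ?_ ?_ ?_ ?_ ?_
  · rw [← map_mul, show a * a = 1 from Subtype.ext h1, map_one]
  · rw [← map_mul, show b * b = 1 from Subtype.ext h2, map_one]
  · rw [← map_mul, show c * c = 1 from Subtype.ext h3, map_one]
  · rw [← map_mul, ← map_mul, show a * b = b * a from Subtype.ext h4]
  · rw [← map_mul, ← map_mul, show a * c = c * a from Subtype.ext h5]
  · rw [← map_mul, ← map_mul, show b * c = c * b from Subtype.ext h6]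
  all_goals
    (try simp only [← map_mul])
    intro e
    obtain ⟨e1, e2⟩ := hz _ e
    have u1 := congrArg Subtype.val e1
    have u2 := congrArg Subtype.val e2
    revert u1 u2
    simp only [Subgroup.coe_mul, a, b, c, z, w]
    decide +kernel

end CfsgLib.OrderFormula.Weak.Spor26
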